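import Cfsg.Agent.Lib.Helper51.OE.F1
import Cfsg.Agent.Lib.Helper57.OE.Base

set_option autoImplicit false
set_option linter.unusedSectionVars false
set_option linter.unusedVariables false

namespace Cfsg.Agent.Lib.Helper98.OE

open Cfsg Cfsg.Geo Matrix Cfsg.Agent.Lib.Helper13.Asch Cfsg.Agent.Lib.Helper90.Sp
open Cfsg.Agent.Lib.Helper57.OE (IsLagr)
open Cfsg.Agent.Lib.Helper51.OE (perp mem_perp mem_perp' finrank_perp perp_perp perp_sup le_perp_of_ts
  polar_eq_zero_of_ts exists_lagr_ge)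
open scoped Kronecker MatrixGroups

variable {ι : Type} [Fintype ι] [DecidableEq ι] {F : Type*} [Field F] {Q : (ι → F) → F}

/-- G0 -/
theorem perp_nondeg (hQ : IsNondegenerateQuadraticForm Q) (W : Submodule F (ι → F))
    (hnd : IsNondegenerateOn (QuadraticMap.polar Q) W) :
    IsNondegenerateOn (QuadraticMap.polar Q) (perp hQ W) ∧ IsCompl W (perp hQ W) := by
  have hc : IsCompl W (perp hQ W) := Cfsg.Agent.Lib.Helper37.OE.isCompl_orth hQ W hnd
  refine ⟨?_, hc⟩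
  have key : ∀ w ∈ perp hQ W, w ≠ 0 → ∃ x ∈ perp hQ W, QuadraticMap.polar Q x w ≠ 0 := by
    intro w hw hw0
    obtain ⟨⟨x, hx⟩, -⟩ := hQ.nondegenerate w hw0
    have hxt : x ∈ W ⊔ perp hQ W := by
      rw [hc.sup_eq_top]; trivial
    obtain ⟨a, ha, b, hb, rfl⟩ := Submodule.mem_sup.1 hxt
    refine ⟨b, hb, ?_⟩
    rw [hQ.polar_bilinear.add_left] at hx
    have h0 : QuadraticMap.polar Q a w = 0 := (mem_perp hQ).1 hw a ha
    rwa [h0, zero_add] at hx
  intro w hw hw0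
  obtain ⟨x, hx, hxw⟩ := key w hw hw0
  exact ⟨⟨x, hx, hxw⟩, ⟨x, hx, by rwa [QuadraticMap.polar_comm]⟩⟩

end Cfsg.Agent.Lib.Helper98.OE
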