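import Cfsg.Agent.Lib.Helper51.OE.F1
import Cfsg.Agent.Lib.Helper57.OE.Base
import Cfsg.Agent.Lib.Helper98.OE.G0

set_option autoImplicit false
set_option linter.unusedSectionVars false
set_option linter.unusedVariables false

namespace Cfsg.Agent.Lib.Helper98.OE

open Cfsg Cfsg.Geo Matrix Cfsg.Agent.Lib.Helper13.Asch Cfsg.Agent.Lib.Helper90.Sp
open Cfsg.Agent.Lib.Helper57.OE (IsLagr)
open Cfsg.Agent.Lib.Helper51.OE (perp mem_perp mem_perp' finrank_perp perp_perp perp_sup le_perp_of_ts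
  polar_eq_zero_of_ts exists_lagr_ge)
open scoped Kronecker MatrixGroups

variable {ι : Type} [Fintype ι] [DecidableEq ι] {F : Type*} [Field F] {Q : (ι → F) → F}

/-- G3 -/
theorem anti_isometry_of_lagr (hQ : IsNondegenerateQuadraticForm Q) (W : Submodule F (ι → F))
    (hnd : IsNondegenerateOn (QuadraticMap.polar Q) W)
    (hdim : 2 * Module.finrank F W = Fintype.card ι) (U : Submodule F (ι → F)) (hU : IsLagr Q U)
    (hUW : U ⊓ W = ⊥) :
    ∃ θ : W ≃ₗ[F] perp hQ W, ∀ w : W, Q ((θ w : perp hQ W) : ι → F) = - Q (w : ι → F) := by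
  have hc : IsCompl W (perp hQ W) := (perp_nondeg hQ W hnd).2
  have hfW' := finrank_perp hQ W
  have hfU := hU.2
  -- U ⊔ W = ⊤
  have h1 : U ⊔ W = ⊤ := by
    apply Submodule.eq_top_of_finrank_eq
    have := Submodule.finrank_sup_add_finrank_inf_eq U W
    rw [hUW, finrank_bot] at this
    rw [Module.finrank_pi, ]
    omega
  -- U ⊓ W' = ⊥
  have h2 : U ⊓ perp hQ W = ⊥ := by
    rw [eq_bot_iff]
    rintro x ⟨hxU, hxW⟩
    rw [Submodule.mem_bot]
    by_contra hx0
    obtain ⟨⟨y, hy⟩, -⟩ := hQ.nondegenerate x hx0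
    apply hy
    have hyt : y ∈ U ⊔ W := by rw [h1]; trivial
    obtain ⟨a, ha, c, hc', rfl⟩ := Submodule.mem_sup.1 hyt
    rw [hQ.polar_bilinear.add_left, polar_eq_zero_of_ts hU.1 ha hxU, (mem_perp hQ).1 hxW c hc',
      add_zero]
  set p1 : U →ₗ[F] W := (W.projectionOnto (perp hQ W) hc).comp U.subtype with hp1
  set p2 : U →ₗ[F] perp hQ W := ((perp hQ W).projectionOnto W hc.symm).comp U.subtype with hp2
  have hi1 : Function.Injective p1 := by
    rw [← LinearMap.ker_eq_bot, LinearMap.ker_eq_bot']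
    intro u hu
    have h3 : (u : ι → F) ∈ perp hQ W := (Submodule.projectionOnto_apply_eq_zero_iff hc).1 hu
    have h4 : (u : ι → F) ∈ U ⊓ perp hQ W := ⟨u.2, h3⟩
    rw [h2, Submodule.mem_bot] at h4
    exact Subtype.ext h4
  have hi2 : Function.Injective p2 := by
    rw [← LinearMap.ker_eq_bot, LinearMap.ker_eq_bot']
    intro u hu
    have h3 : (u : ι → F) ∈ W := (Submodule.projectionOnto_apply_eq_zero_iff hc.symm).1 hu
    have h4 : (u : ι → F) ∈ U ⊓ W := ⟨u.2, h3⟩
    rw [hUW, Submodule.mem_bot] at h4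
    exact Subtype.ext h4
  set e1 : U ≃ₗ[F] W := LinearEquiv.ofInjectiveOfFinrankEq p1 hi1 (by omega) with he1
  set e2 : U ≃ₗ[F] perp hQ W := LinearEquiv.ofInjectiveOfFinrankEq p2 hi2 (by omega) with he2
  have he1a : ∀ u, e1 u = p1 u := fun u => by
    have := LinearEquiv.coe_ofInjectiveOfFinrankEq p1 hi1 (by omega)
    exact congrArg (fun f : U →ₗ[F] W => f u) this
  have he2a : ∀ u, e2 u = p2 u := fun u => by
    have := LinearEquiv.coe_ofInjectiveOfFinrankEq p2 hi2 (by omega)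
    exact congrArg (fun f : U →ₗ[F] perp hQ W => f u) this
  refine ⟨e1.symm.trans e2, fun w => ?_⟩
  set u := e1.symm w with hu
  have hw : w = e1 u := by rw [hu, LinearEquiv.apply_symm_apply]
  have h5 : ((e1 u : W) : ι → F) + ((e2 u : perp hQ W) : ι → F) = (u : ι → F) := by
    rw [he1a, he2a]
    exact Submodule.projection_add_projection_eq_self hc (u : ι → F)
  have h6 : Q (u : ι → F) = 0 := hU.1 _ u.2
  rw [← h5, Cfsg.Agent.Lib.Helper51.OE.Q_add Q, (mem_perp hQ).1 (e2 u).2 _ (e1 u).2, add_zero] at h6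
  rw [LinearEquiv.trans_apply, ← hu, hw]
  exact eq_neg_of_add_eq_zero_right h6

end Cfsg.Agent.Lib.Helper98.OE
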